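import Mathlib
import Cfsg.Agent.Nodes.RGDChev
import Cfsg.Agent.H897.T5Conn
import Cfsg.Agent.Prune
set_option linter.all false
prune_inst 0x7f00000000000000000000000000000000000000000000000000000000000000000000000000000000000000000000000000000000000000000000000000000000000000000000000000000000000000003fffffffffffffffffffffffffffbeffbdffffffff
open scoped Cfsg.Agent.FastGrp

/-!
# Square roots of `-1` of the lattice `E₈` and the standard `D₄` (S2187, X3)

`exists_base` : an automorphism `g` of the root lattice `E₈` with `g² = -1` acts on some conjugate of the standard `D₄`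
(nodes `1, 2, 3, 4`) as an element of its Weyl group.

`trans_D4` : `W(E₈)` is transitive on ordered bases of subsystems `D₄`.
-/

set_option autoImplicit false
set_option linter.unusedSectionVars false

namespace Cfsg.Agent.H897.X3

open CoxeterSystem Cfsg Cfsg.Lie Cfsg.Lie.ChevalleyDatum
open Cfsg.Agent.ChevalleyStructure Cfsg.Agent.ChevalleyStructure.Elts Cfsg.Agent.ChevalleyStructure.CoxeterGeom
  Cfsg.Agent.ChevalleyStructure.CoxeterGeomTypes Cfsg.Agent.ChevalleyStructure.NPerm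
open Cfsg.Agent.Tits.Roots Cfsg.Agent.Tits.Core Cfsg.Agent.Nodes Cfsg.Agent.Nodes.Reps
  Cfsg.Agent.Nodes.RGDChev Cfsg.Agent.Nodes.SubComb Cfsg.Agent.Nodes.Coroot Cfsg.Agent.Nodes.Comb
open Cfsg.Agent.H897.T5Lat (Frm bf bf_apply)
open Cfsg.Agent.H897.T5Conn (Par)

/-! ### dominance -/

section Dom

variable {I W : Type*} [Fintype I] [DecidableEq I] [Group W] {M : CoxeterMatrix I}
  {cs : CoxeterSystem M W} {A : I → I → ℤ} {h : IsCartan M A} {B : LinearMap.BilinForm ℤ (I → ℤ)}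

/-- fixed vectors of a parabolic subgroup -/
theorem fix_closure [Finite W] (F : Frm cs h B) {J : Set I} {y : I → ℤ} (hy : ∀ i ∈ J, B y (sr i) = 0) {w : W}
    (hw : w ∈ Subgroup.closure (cs.simple '' J)) : rep cs h w y = y := by
  induction hw using Subgroup.closure_induction with
  | mem x hx =>
    obtain ⟨i, hi, rfl⟩ := hx
    rw [rep_simple_eq, ← cpr_sr cs h, ← F.cpr y _ (isRoot_sr cs h i), hy i hi, zero_smul, sub_zero]
  | one => rw [map_one, Module.End.one_apply]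
  | mul x y _ _ h1 h2 => rw [rep_mul_apply, h2, h1]
  | inv x _ h1 => conv_lhs => rw [← h1, rep_inv_apply]

/-- **Dominance** for a parabolic subgroup. -/
theorem exists_dom [Finite W] (F : Frm cs h B) (J : Set I) (x : I → ℤ) :
    ∃ w ∈ Subgroup.closure (cs.simple '' J), ∀ i ∈ J, 0 ≤ B (rep cs h w x) (sr i) := by
  obtain ⟨w, hw, hmax⟩ := Set.exists_max_image ((Subgroup.closure (cs.simple '' J) : Subgroup W) : Set W)
    (fun w => ∑ i, rep cs h w x i) (Set.toFinite _) ⟨1, one_mem _⟩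
  refine ⟨w, hw, fun i hi => ?_⟩
  by_contra hcon
  push Not at hcon
  have h1 := hmax (cs.simple i * w) (mul_mem (Subgroup.subset_closure ⟨i, hi, rfl⟩) hw)
  simp only [rep_mul_apply] at h1
  rw [rep_simple_eq, ← cpr_sr cs h, ← F.cpr _ _ (isRoot_sr cs h i)] at h1
  simp only [Pi.sub_apply, Pi.smul_apply, smul_eq_mul, Finset.sum_sub_distrib, ← Finset.mul_sum] at h1
  have h2 : ∑ j, (sr i : I → ℤ) j = 1 := by
    rw [Finset.sum_eq_single i]
    · exact sr_self i
    · intro b _ hb; exact sr_ne hb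
    · intro hj; exact absurd (Finset.mem_univ i) hj
  rw [h2, mul_one] at h1
  linarith

theorem ge_neg_two [Finite W] (F : Frm cs h B) {x y : I → ℤ} (hx : IsRoot cs h x) (hy : IsRoot cs h y) : -2 ≤ B x y := by
  have h1 := F.nonneg (x + y)
  rw [F.norm_add, F.self hx, F.self hy] at h1
  linarith

theorem eq_neg_of [Finite W] (F : Frm cs h B) {x y : I → ℤ} (hx : IsRoot cs h x) (hy : IsRoot cs h y) (h2 : B x y = -2) :
    x = -y := by
  have h1 : B (x + y) (x + y) ≤ 0 := by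
    rw [F.norm_add, F.self hx, F.self hy, h2]
    norm_num
  exact eq_neg_of_add_eq_zero_left (F.eq_zero h1)

theorem le_two [Finite W] (F : Frm cs h B) {x y : I → ℤ} (hx : IsRoot cs h x) (hy : IsRoot cs h y) : B x y ≤ 2 := by
  have h1 := ge_neg_two F hx.neg hy
  rw [map_neg, LinearMap.neg_apply] at h1
  linarith

theorem add_iff [Finite W] (F : Frm cs h B) {x y : I → ℤ} (hx : IsRoot cs h x) (hy : IsRoot cs h y) :
    B x y = -1 ↔ IsRoot cs h (x + y) := by
  constructor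
  · intro h1
    have h2 := isRoot_refl cs h hx hy
    rw [← F.cpr x y hy, h1, neg_smul, one_smul, sub_neg_eq_add] at h2
    exact h2
  · intro h1
    have h2 := F.self h1
    rw [F.norm_add, F.self hx, F.self hy] at h2
    linarith

theorem sub_iff [Finite W] (F : Frm cs h B) {x y : I → ℤ} (hx : IsRoot cs h x) (hy : IsRoot cs h y) :
    B x y = 1 ↔ IsRoot cs h (x - y) := by
  have h1 := add_iff F hx hy.neg
  rw [map_neg, ← sub_eq_add_neg] at h1
  rw [← h1]
  constructor <;> intro h2 <;> linarith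

/-- an additive automorphism preserving the roots is an isometry on the roots -/
theorem isom [Finite W] (F : Frm cs h B) {g : (I → ℤ) ≃+ (I → ℤ)} (hg : ∀ a, IsRoot cs h (g a) ↔ IsRoot cs h a)
    {x y : I → ℤ} (hx : IsRoot cs h x) (hy : IsRoot cs h y) : B (g x) (g y) = B x y := by
  have gx := (hg x).2 hx
  have gy := (hg y).2 hy
  have a1 := ge_neg_two F hx hy
  have a2 := le_two F hx hy
  have b1 := ge_neg_two F gx gy
  have b2 := le_two F gx gy
  have e1 : B (g x) (g y) = -1 ↔ B x y = -1 := by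
    rw [add_iff F gx gy, add_iff F hx hy, ← map_add, hg]
  have e2 : B (g x) (g y) = 1 ↔ B x y = 1 := by
    rw [sub_iff F gx gy, sub_iff F hx hy, ← map_sub, hg]
  have e3 : B (g x) (g y) = -2 ↔ B x y = -2 := by
    constructor
    · intro h1
      have h2 := eq_neg_of F gx gy h1
      rw [← map_neg] at h2
      rw [g.injective h2, map_neg, LinearMap.neg_apply, F.self hy]
    · intro h1
      rw [eq_neg_of F hx hy h1, map_neg, map_neg, LinearMap.neg_apply, F.self gy]
  have e4 : B (g x) (g y) = 2 ↔ B x y = 2 := by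
    constructor
    · intro h1
      have h2 : B (g x) (-g y) = -2 := by rw [map_neg, h1]
      have h3 := eq_neg_of F gx gy.neg h2
      rw [neg_neg] at h3
      rw [g.injective h3, F.self hy]
    · intro h1
      have h2 : B x (-y) = -2 := by rw [map_neg, h1]
      have h3 := eq_neg_of F hx hy.neg h2
      rw [neg_neg] at h3
      rw [h3, F.self gy]
  omega

end Dom

/-! ### `E₈` -/

/-- Cartan matrix of `E₈` -/
def A8 : Fin 8 → Fin 8 → ℤ := ![![2, 0, -1, 0, 0, 0, 0, 0], ![0, 2, 0, -1, 0, 0, 0, 0], ![-1, 0, 2, -1, 0, 0, 0, 0],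
  ![0, -1, -1, 2, -1, 0, 0, 0], ![0, 0, 0, -1, 2, -1, 0, 0], ![0, 0, 0, 0, -1, 2, -1, 0],
  ![0, 0, 0, 0, 0, -1, 2, -1], ![0, 0, 0, 0, 0, 0, -1, 2]]

/-- the form, computable -/
def b8 (x y : Fin 8 → ℤ) : ℤ := ∑ i, ∑ j, x i * A8 i j * y j

theorem hA8 : ∀ i j, cartanOf chevE8 8 i j = A8 i j := by decide +kernel

theorem bf_eq (x y : Fin 8 → ℤ) : bf (cartanOf chevE8 8) x y = b8 x y := by
  rw [bf_apply, b8]
  simp_rw [hA8]

theorem par8 : Par CoxeterMatrix.E₈ 1 ![2, 1, 3, 1, 3, 4, 5, 6] 8 := ⟨by decide +kernel, rfl, by decide +kernel⟩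

set_option backward.isDefEq.respectTransparency false in
theorem n8 : ∀ i j : Fin 8, CoxeterMatrix.E₈ i j ≠ 4 ∧ CoxeterMatrix.E₈ i j ≠ 6 := by decide +kernel

theorem eq_E8 {M : CoxeterMatrix (Fin 8)} (hp : IsType chevE8 8 M) : M = CoxeterMatrix.E₈ := by
  simp only [IsType, typeList, List.mem_cons, List.not_mem_nil, or_false, Prod.mk.injEq] at hp
  rcases hp with ⟨h, e⟩ | ⟨h, e⟩ | ⟨h, e⟩ | ⟨h, e⟩ | ⟨h, e⟩ | ⟨h, e⟩ | ⟨h, e⟩
  · exact absurd (congrArg Sigma.fst e) (by norm_num)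
  · exact absurd (congrArg Sigma.fst e) (by norm_num)
  · exact absurd (congrArg Sigma.fst e) (by norm_num)
  · exact absurd (congrArg Sigma.fst e) (by norm_num)
  · exact absurd (congrArg Sigma.fst e) (by norm_num)
  · exact absurd (congrArg Sigma.fst e) (by norm_num)
  · exact eq_of_heq (Sigma.mk.inj e).2

/-- the highest root -/
def th : Fin 8 → ℤ := ![2, 3, 4, 6, 5, 4, 3, 2]

/-- the third root of the tuple -/
def vc : Fin 8 → ℤ := ![0, -1, -1, -2, -2, -2, -2, -1]

/-- the fourth root of the tuple -/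
def vd : Fin 8 → ℤ := ![-2, -2, -3, -4, -3, -2, -2, -1]

/-- a root orthogonal to `th` -/
def vo : Fin 8 → ℤ := ![2, 2, 3, 4, 3, 2, 1, 0]

theorem vals : (∀ j, b8 th (sr j) = (![0, 0, 0, 0, 0, 0, 0, 1] : Fin 8 → ℤ) j) ∧
    (∀ j, b8 vc (sr j) = (![1, 0, 0, 0, 0, 0, -1, 0] : Fin 8 → ℤ) j) ∧
    (∀ j, b8 vd (sr j) = (![-1, 0, 0, 0, 0, 1, -1, 0] : Fin 8 → ℤ) j) ∧
    (∀ j, b8 vo (sr j) = (![1, 0, 0, 0, 0, 0, 0, -1] : Fin 8 → ℤ) j) ∧
    (∀ j, b8 (-sr 7) (sr j) = (![0, 0, 0, 0, 0, 0, 1, -2] : Fin 8 → ℤ) j) := by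
  decide +kernel

section Chev

variable {M : CoxeterMatrix (Fin 8)} (hp : IsType chevE8 8 M) {W : Type*} [Group W] (cs : CoxeterSystem M W)

theorem frm8 : Frm cs hp.isCartan (bf (cartanOf chevE8 8)) := by
  have := finite_W hp cs
  obtain rfl := eq_E8 hp
  exact par8.frm cs hp.isCartan (fun i j => (n8 i j).1) (fun i j => (n8 i j).2)

theorem trans8 {a b : Fin 8 → ℤ} (ha : IsRoot cs hp.isCartan a) (hb : IsRoot cs hp.isCartan b) :
    ∃ w : W, rep cs hp.isCartan w a = b := by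
  obtain rfl := eq_E8 hp
  obtain ⟨w, hw⟩ := par8.trans (cs := cs) (h := hp.isCartan) ha
  obtain ⟨w', hw'⟩ := par8.trans (cs := cs) (h := hp.isCartan) hb
  exact ⟨w'⁻¹ * w, by rw [rep_mul_apply, hw, ← hw', rep_inv_apply]⟩

theorem isRoot_th : IsRoot cs hp.isCartan th := by
  refine (isRoot_iff hp cs _).2 ?_
  decide +kernel

/-- the pairing with a vector -/
theorem b8_eq (x y : Fin 8 → ℤ) : b8 x y = y 0 * b8 x (sr 0) + y 1 * b8 x (sr 1) + y 2 * b8 x (sr 2) + y 3 * b8 x (sr 3) +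
    y 4 * b8 x (sr 4) + y 5 * b8 x (sr 5) + y 6 * b8 x (sr 6) + y 7 * b8 x (sr 7) := by
  have h0 : ∀ j, b8 x (sr j) = ∑ i, x i * A8 i j := fun j => by
    rw [b8]
    refine Finset.sum_congr rfl fun i _ => ?_
    rw [Finset.sum_eq_single j]
    · rw [sr_self, mul_one]
    · intro b _ hb; rw [sr_ne hb, mul_zero]
    · intro hj; exact absurd (Finset.mem_univ j) hj
  simp only [h0]
  rw [b8, Finset.sum_comm]
  simp only [Fin.sum_univ_eight]
  ring

/-- a base of a subsystem `D₄` with centre `a` -/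
structure Bs (a b c d : Fin 8 → ℤ) : Prop where
  ra : IsRoot cs hp.isCartan a
  rb : IsRoot cs hp.isCartan b
  rc : IsRoot cs hp.isCartan c
  rd : IsRoot cs hp.isCartan d
  ab : b8 b a = -1
  ac : b8 c a = -1
  ad : b8 d a = -1
  bc : b8 c b = 0
  bd : b8 d b = 0
  cd : b8 d c = 0

variable {cs}

theorem inv8 (w : W) (x y : Fin 8 → ℤ) : b8 (rep cs hp.isCartan w x) (rep cs hp.isCartan w y) = b8 x y := by
  have := (frm8 hp cs).inv w x y
  rwa [bf_eq, bf_eq] at this

variable {hp} in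
theorem Bs.rep {a b c d : Fin 8 → ℤ} (H : Bs hp cs a b c d) (w : W) :
    Bs hp cs (rep cs hp.isCartan w a) (rep cs hp.isCartan w b) (rep cs hp.isCartan w c) (rep cs hp.isCartan w d) where
  ra := H.ra.act w
  rb := H.rb.act w
  rc := H.rc.act w
  rd := H.rd.act w
  ab := by rw [inv8 hp]; exact H.ab
  ac := by rw [inv8 hp]; exact H.ac
  ad := by rw [inv8 hp]; exact H.ad
  bc := by rw [inv8 hp]; exact H.bc
  bd := by rw [inv8 hp]; exact H.bd
  cd := by rw [inv8 hp]; exact H.cd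

/-- the pairings of a root with the simple roots -/
theorem ge8 {x : Fin 8 → ℤ} (hx : IsRoot cs hp.isCartan x) (j : Fin 8) : -2 ≤ b8 x (sr j) := by
  have := finite_W hp cs
  rw [← bf_eq]
  exact ge_neg_two (frm8 hp cs) hx (isRoot_sr cs _ j)

theorem neg8 {x : Fin 8 → ℤ} (hx : IsRoot cs hp.isCartan x) {j : Fin 8} (h : b8 x (sr j) = -2) : x = -sr j := by
  have := finite_W hp cs
  rw [← bf_eq] at h
  exact eq_neg_of (frm8 hp cs) hx (isRoot_sr cs _ j) h

theorem dom8 (J : Set (Fin 8)) (x : Fin 8 → ℤ) :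
    ∃ w ∈ Subgroup.closure (cs.simple '' J), ∀ i ∈ J, 0 ≤ b8 (rep cs hp.isCartan w x) (sr i) := by
  have := finite_W hp cs
  obtain ⟨w, hw, h1⟩ := exists_dom (frm8 hp cs) J x
  exact ⟨w, hw, fun i hi => by rw [← bf_eq]; exact h1 i hi⟩

theorem fix8 {J : Set (Fin 8)} {y : Fin 8 → ℤ} (hy : ∀ i ∈ J, b8 y (sr i) = 0) {w : W}
    (hw : w ∈ Subgroup.closure (cs.simple '' J)) : rep cs hp.isCartan w y = y := by
  have := finite_W hp cs
  exact fix_closure (frm8 hp cs) (fun i hi => by rw [bf_eq]; exact hy i hi) hw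

theorem b8_th (x : Fin 8 → ℤ) : b8 x th = 2 * b8 x (sr 0) + 3 * b8 x (sr 1) + 4 * b8 x (sr 2) + 6 * b8 x (sr 3) +
    5 * b8 x (sr 4) + 4 * b8 x (sr 5) + 3 * b8 x (sr 6) + 2 * b8 x (sr 7) := b8_eq x th

theorem b8_neg (x y : Fin 8 → ℤ) : b8 x (-y) = -b8 x y := by
  rw [← bf_eq, ← bf_eq, map_neg]

end Chev

theorem b8_add {x y z : Fin 8 → ℤ} : b8 (x + y) z = b8 x z + b8 y z := by
  rw [← bf_eq, ← bf_eq, ← bf_eq, map_add, LinearMap.add_apply]

theorem b8_sub {x y z : Fin 8 → ℤ} : b8 (x - y) z = b8 x z - b8 y z := by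
  rw [← bf_eq, ← bf_eq, ← bf_eq, map_sub, LinearMap.sub_apply]

end Cfsg.Agent.H897.X3

private theorem dce_0e2e25ed96cd : _root_.True := by
  try have : _root_.True := by simp only [_root_.Cfsg.Agent.H897.X3.b8.eq_1]
  exact _root_.True.intro
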